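import Groth.Agent.Lib.AffDom.LocalDim
import Mathlib

/-!
# The local dimension of the spectrum of an algebra of finite type over a field
-/

universe u

open TopologicalSpace

namespace GrothLib.LocalDimAlg

variable {S : Type u} [CommRing S]

theorem dim_basicOpen (g : S) :
    topologicalKrullDim ((PrimeSpectrum.basicOpen g : Opens (PrimeSpectrum S)) : Set (PrimeSpectrum S)) =
      ringKrullDim (Localization.Away g) := by
  have he := PrimeSpectrum.localization_away_isOpenEmbedding (Localization.Away g) g
  have hr := PrimeSpectrum.localization_away_comap_range (Localization.Away g) g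
  rw [← PrimeSpectrum.topologicalKrullDim_eq_ringKrullDim]
  exact (IsHomeomorph.topologicalKrullDim_eq _
    ((he.isEmbedding.toHomeomorph.trans (Homeomorph.setCongr hr)).isHomeomorph)).symm

variable (k : Type u) [Field k] [Algebra k S] [Algebra.FiniteType k S] (p : Ideal S) [p.IsPrime]

include k in
theorem exists_dim_basicOpen_le : ∃ g ∉ p,
    ringKrullDim (Localization.Away g) ≤ (p.height : WithBot ℕ∞) + ringKrullDim (S ⧸ p) := by
  obtain ⟨g, hg, h⟩ := GrothLib.AffDom.exists_notMem_forall_dim_quotient_le k S p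
  refine ⟨g, hg, iSup_le fun l => ?_⟩
  let L := Localization.Away g
  let f : PrimeSpectrum L → PrimeSpectrum S := PrimeSpectrum.comap (algebraMap S L)
  have hg0 : g ∉ (f l.head).asIdeal := fun hm => l.head.2.ne_top
    (Ideal.eq_top_of_isUnit_mem _ hm (IsLocalization.Away.algebraMap_isUnit g))
  have hsm : StrictMono f := fun a b hab => lt_of_le_of_ne (Ideal.comap_mono hab.le)
    fun e => hab.ne (PrimeSpectrum.localization_comap_injective L (Submonoid.powers g) e)
  let l' : LTSeries (PrimeSpectrum.zeroLocus (R := S) ((f l.head).asIdeal : Set S)) :=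
    { length := l.length
      toFun := fun i => ⟨f (l i), hsm.monotone (l.monotone (Fin.zero_le i))⟩
      step := fun i => hsm (l.step i) }
  refine le_trans ?_ (h (f l.head) hg0)
  rw [ringKrullDim_quotient]
  exact Order.LTSeries.length_le_krullDim l'

include k in
theorem le_dim_basicOpen {g : S} (hg : g ∉ p) :
    (p.height : WithBot ℕ∞) + ringKrullDim (S ⧸ p) ≤ ringKrullDim (Localization.Away g) := by
  let L := Localization.Away g
  have hdisj : Disjoint (Submonoid.powers g : Set S) (p : Set S) :=
    (Ideal.disjoint_powers_iff_notMem_of_isPrime g).2 hg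
  let P := p.map (algebraMap S L)
  have hP : P.IsPrime := IsLocalization.isPrime_of_isPrime_disjoint (Submonoid.powers g) _ _ ‹_› hdisj
  have hht : P.height = p.height := by
    rw [← IsLocalization.height_under (Submonoid.powers g) P]
    exact congrArg Ideal.height (IsLocalization.under_map_of_isPrime_disjoint (Submonoid.powers g) _ ‹_› hdisj)
  refine le_trans ?_ (GrothLib.AffDom.height_add_ringKrullDim_quotient_le P)
  rw [hht]
  gcongr
  let B := Localization.Away (Ideal.Quotient.mk p g)
  rw [← GrothLib.Dim.ringKrullDim_away k (S ⧸ p) (Ideal.Quotient.mk p g)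
    (fun h => hg (Ideal.Quotient.eq_zero_iff_mem.1 h)) B]
  let φ : L →+* B := IsLocalization.Away.map L B (Ideal.Quotient.mk p) g
  have hφ : ∀ a, φ (algebraMap S L a) = algebraMap (S ⧸ p) B (Ideal.Quotient.mk p a) := fun a =>
    IsLocalization.map_eq _ a
  have hsurj : Function.Surjective φ := by
    intro y
    obtain ⟨a, ⟨_, n, rfl⟩, rfl⟩ := IsLocalization.exists_mk'_eq (Submonoid.powers (Ideal.Quotient.mk p g)) y
    obtain ⟨b, rfl⟩ := Ideal.Quotient.mk_surjective a
    refine ⟨IsLocalization.mk' L b (⟨g ^ n, n, rfl⟩ : Submonoid.powers g), ?_⟩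
    refine (IsLocalization.map_mk' _ _ _).trans ?_
    congr 1
  refine ringKrullDim_le_of_surjective (Ideal.Quotient.lift P φ ?_)
    (Ideal.Quotient.lift_surjective_of_surjective P _ hsurj)
  intro a ha
  refine (Ideal.map_le_iff_le_comap.2 fun b hb => ?_ : P ≤ RingHom.ker φ) ha
  rw [Ideal.mem_comap, RingHom.mem_ker, hφ, Ideal.Quotient.eq_zero_iff_mem.2 hb, map_zero]

include k in
theorem localDim_eq :
    FlatMor.localDim (PrimeSpectrum S) ⟨p, inferInstance⟩ =
      (p.height : WithBot ℕ∞) + ringKrullDim (S ⧸ p) := by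
  refine le_antisymm ?_ (le_iInf fun U => ?_)
  · obtain ⟨g, hg, hle⟩ := exists_dim_basicOpen_le k p
    refine iInf_le_of_le ⟨PrimeSpectrum.basicOpen g, hg⟩ ?_
    exact (dim_basicOpen g).trans_le hle
  · obtain ⟨_, ⟨_, ⟨g, rfl⟩, rfl⟩, hgp, hgU⟩ :=
      PrimeSpectrum.isBasis_basic_opens.exists_subset_of_mem_open U.2 U.1.isOpen
    refine (le_dim_basicOpen k p hgp).trans ((dim_basicOpen g).symm.trans_le ?_)
    exact (Topology.IsEmbedding.inclusion hgU).isInducing.topologicalKrullDim_le

end GrothLib.LocalDimAlg
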